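import Groth.Agent.L20.Strat.SupportedAll
import Groth.Agent.L16.Devissage
import Groth.Agent.L18.TildeFunctor
import Groth.Agent.L17.AffinePush
import Groth.Prelude.Def_MoreMor

/-!
# Cohomological dimension is bounded by the affine stratification number
-/

universe u

open CategoryTheory CategoryTheory.Limits CategoryTheory.Abelian AlgebraicGeometry TopologicalSpace Opposite

noncomputable section

namespace Groth.L20.Strat

open Groth.L17 (HU huMap huRes hTopEquiv)
open Groth.L18.Frame (rs ro rs_rs ro_ro rs_smul rs_self ro_self)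

set_option linter.style.haveILetI false
set_option backward.isDefEq.respectTransparency.types false

variable {X : Scheme.{u}}

/-- Kernels of maps of quasi-coherent modules are quasi-coherent. -/
theorem isQCoh_kernel {F G : X.Modules} [Coh.IsQCoh F] [Coh.IsQCoh G] (φ : F ⟶ G) :
    Coh.IsQCoh (kernel φ) := by
  refine Groth.L00.Local.isQCoh_of_tilde_charts _ fun x => ?_
  obtain ⟨_, ⟨U, hU, rfl⟩, hxU, -⟩ :=
    X.isBasis_affineOpens.exists_subset_of_mem_open (Set.mem_univ x) isOpen_univ
  let j := hU.fromSpec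
  obtain ⟨NF, ⟨eF⟩⟩ := Groth.L00.Local.exists_tilde_iso_restrict j F
  obtain ⟨NG, ⟨eG⟩⟩ := Groth.L00.Local.exists_tilde_iso_restrict j G
  obtain ⟨l, hl⟩ := (tilde.functor Γ(X, U)).map_surjective
    (eF.inv ≫ (Scheme.Modules.restrictFunctor j).map φ ≫ eG.hom)
  exact ⟨_, j, inferInstance, kernel l, hU.opensRange_fromSpec.ge hxU,
    ⟨PreservesKernel.iso (Scheme.Modules.restrictFunctor j) φ ≪≫
      kernel.mapIso _ ((tilde.functor _).map l) eF eG (by rw [hl]; simp) ≪≫
      (PreservesKernel.iso (tilde.functor _) l).symm⟩⟩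

/-- Monomorphisms of modules are injective on sections. -/
theorem app_injective_of_mono {F G : X.Modules} (φ : F ⟶ G) [Mono φ] (U : X.Opens) :
    Function.Injective (φ.app U) := by
  haveI h₁ : Mono ((SheafOfModules.toSheaf X.ringCatSheaf).map φ) :=
    inferInstanceAs (Mono ((Groth.L21.Mod.toAbSh X).map φ))
  have h₂ : Mono ((sheafToPresheaf _ _).map ((SheafOfModules.toSheaf X.ringCatSheaf).map φ)) := inferInstance
  exact (AddCommGrpCat.mono_iff_injective _).1 ((NatTrans.mono_iff_mono_app _).1 h₂ (op U))

/-- The kernel and cokernel of a map which is bijective on the opens avoiding `T` vanish there. -/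
theorem supp0_kernel_cokernel {F G : X.Modules} (φ : F ⟶ G) {T : Set X}
    (h : ∀ U : X.Opens, Disjoint (U : Set X) T → Function.Bijective (φ.app U)) :
    Supp0 (kernel φ) T ∧ Supp0 (cokernel φ) T := by
  constructor
  · intro U hU s
    refine app_injective_of_mono (kernel.ι φ) U ?_
    refine (h U hU).1 ?_
    rw [map_zero, map_zero, ← ConcreteCategory.comp_apply, ← Scheme.Modules.Hom.comp_app, kernel.condition]
    rfl
  · intro U hU s
    haveI : Epi ((SheafOfModules.toSheaf X.ringCatSheaf).map (cokernel.π φ)) :=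
      inferInstanceAs (Epi ((Groth.L21.Mod.toAbSh X).map (cokernel.π φ)))
    obtain ⟨S, hS⟩ := Groth.L10.SiteCoh.locally_surjective_of_epi
      ((SheafOfModules.toSheaf X.ringCatSheaf).map (cokernel.π φ)) (U := U) s
    have hx : ∀ x : U, ∃ (V : X.Opens) (hV : V ≤ U), x.1 ∈ V ∧ rs (cokernel φ) hV s = 0 := by
      intro x
      obtain ⟨V, i, hi, hxV⟩ := S.2 x.1 x.2
      obtain ⟨t, ht⟩ := hS ⟨V, i, hi⟩
      refine ⟨V, i.le, hxV, ?_⟩
      obtain ⟨t', rfl⟩ := (h V (hU.mono_left (SetLike.coe_subset_coe.2 i.le))).2 t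
      refine Eq.trans ?_ (show (cokernel.π φ).app V (φ.app V t') = 0 by
        rw [← ConcreteCategory.comp_apply, ← Scheme.Modules.Hom.comp_app, cokernel.condition]
        rfl)
      exact ht.symm
    choose V hV hxV hV0 using hx
    refine eq_of_rs_eq V hV (fun x hx => Opens.mem_iSup.2 ⟨⟨x, hx⟩, hxV ⟨x, hx⟩⟩) fun x => ?_
    exact (hV0 x).trans (map_zero _).symm

/-- The inductive bound: modules supported on the first `k` strata. -/
theorem hu_eq_zero_of_strata [CompactSpace X] [QuasiSeparatedSpace X] {n : ℕ} (s : X → Fin (n + 1))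
    (hs : ∀ i, IsClosed {x : X | s x ≤ i})
    (hst : ∀ i : Fin (n + 1), ∃ (Z : Scheme.{u}) (ι : Z ⟶ X),
      IsImmersion ι ∧ IsAffine Z ∧ IsAffineHom ι ∧ Set.range ι = {x : X | s x = i}) :
    ∀ (k : ℕ), k ≤ n + 1 → ∀ (F : X.Modules) [Coh.IsQCoh F], Supp0 F {x : X | (s x).val < k} →
      ∀ p, k ≤ p + 1 → ∀ x : HU (X := X.toTopCat) ⊤ (Coh.toAb F) (p + 1), x = 0 := by
  intro k
  induction k with
  | zero =>
    intro _ F _ hF p _ x
    exact hu_zero hF ⊤ (by simp) _ x
  | succ k ih =>
    intro hk F _ hF p hp x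
    let T : Set X := {x | (s x).val < k}
    have hTc : IsClosed T := by
      rcases Nat.eq_zero_or_pos k with rfl | hk0
      · simp [T]
      · convert hs ⟨k - 1, by omega⟩ using 1
        ext y
        change (s y).val < k ↔ (s y).val ≤ k - 1
        omega
    obtain ⟨Z, ι, _, hZ, hι, hr⟩ := hst ⟨k, by omega⟩
    let W : X.Opens := away hTc
    have hcompl : ∀ m : ℕ, IsCompact {x : X | m ≤ (s x).val} := by
      intro m
      have e : {x : X | m ≤ (s x).val} = ⋃ i ∈ {i : Fin (n + 1) | m ≤ i.val}, {x : X | s x = i} := by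
        ext y; simp
      rw [e]
      refine (Set.toFinite _).isCompact_biUnion fun i _ => ?_
      obtain ⟨Z', ι', _, _, _, hr'⟩ := hst i
      rw [← hr']
      exact isCompact_range ι'.continuous
    have hWc : IsCompact (W : Set X) := by
      convert hcompl k using 1
      ext y
      change ¬ (s y).val < k ↔ k ≤ (s y).val
      omega
    haveI : CompactSpace W.toScheme := isCompact_iff_compactSpace.mp hWc
    haveI : QuasiSeparatedSpace W.toScheme := QuasiSeparatedSpace.of_isOpenEmbedding W.ι.isOpenEmbedding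
    haveI : QuasiCompact W.ι := ⟨fun U hU hUc => by
      rw [W.ι.isOpenEmbedding.isInducing.isCompact_iff, Set.image_preimage_eq_inter_range, Scheme.Opens.range_ι]
      exact QuasiSeparatedSpace.inter_isCompact _ _ hU hUc W.2 hWc⟩
    have hrange : Set.range ι ⊆ Set.range W.ι := by
      rw [hr, Scheme.Opens.range_ι]
      intro y hy
      change ¬ (s y).val < k
      rw [show s y = _ from hy]
      simp
    let t : Z ⟶ W.toScheme := IsOpenImmersion.lift W.ι ι hrange
    have ht : t ≫ W.ι = ι := IsOpenImmersion.lift_fac _ _ _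
    have htr : Set.range t = W.ι ⁻¹' {x : X | (s x).val < k + 1} := by
      ext w
      have hw : k ≤ (s (W.ι w)).val := Nat.le_of_not_lt w.2
      constructor
      · rintro ⟨z, rfl⟩
        have : ι z ∈ Set.range ι := ⟨z, rfl⟩
        rw [hr, ← ht] at this
        change (s (W.ι (t z))).val < k + 1
        rw [show s (W.ι (t z)) = _ from this]
        simp
      · intro hw'
        have : W.ι w ∈ Set.range ι := by
          rw [hr]
          exact Fin.ext (show (s (W.ι w)).val = k by simp only [Set.mem_preimage, Set.mem_setOf_eq] at hw'; omega)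
        obtain ⟨z, hz⟩ := this
        refine ⟨z, W.ι.isOpenEmbedding.injective ?_⟩
        rw [← Scheme.Hom.comp_apply, ht, hz]
    haveI : IsPreimmersion (t ≫ W.ι) := by rw [ht]; infer_instance
    haveI : IsPreimmersion t := IsPreimmersion.of_comp t W.ι
    haveI : IsClosedImmersion t := by
      refine IsClosedImmersion.of_isPreimmersion t ?_
      rw [htr]
      refine IsClosed.preimage W.ι.continuous ?_
      convert hs ⟨k, by omega⟩ using 1
      ext y
      change (s y).val < k + 1 ↔ (s y).val ≤ k
      omega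
    have htc : IsCompact (Set.range t)ᶜ := by
      rw [htr, ← Set.preimage_compl, W.ι.isOpenEmbedding.isInducing.isCompact_iff,
        Set.image_preimage_eq_inter_range, Scheme.Opens.range_ι]
      convert hcompl (k + 1) using 1
      ext y
      change ¬ (s y).val < k + 1 ∧ ¬ (s y).val < k ↔ k + 1 ≤ (s y).val
      omega
    haveI : Coh.IsQCoh (F.restrict W.ι) := Scheme.Modules.isQuasicoherent_restrictFunctor W.ι F
    have hFW : Supp0 (F.restrict W.ι) (Set.range t) := htr ▸ hF.restrict W
    let G : X.Modules := (Scheme.Modules.pushforward W.ι).obj (F.restrict W.ι)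
    haveI : Coh.IsQCoh G := Groth.L16.QcqsPush.isQCoh_push _ W.ι
    -- the direct image of the stratum is acyclic
    have hG : ∀ y : HU (X := X.toTopCat) ⊤ (Coh.toAb G) (p + 1), y = 0 := by
      have hloc : Groth.L10.SiteCoh.LocAcyclic (Opens.grothendieckTopology X) (Opens.map W.ι.base)
          (Coh.toAb (F.restrict W.ι)) :=
        Groth.L17.locAcyclic_of_basis (Y := X.toTopCat) W.ι.base (B := X.affineOpens) X.isBasis_affineOpens _
          fun V hV m y => hu_eq_zero_of_supported t htc _ hFW (W.ι ⁻¹ᵁ V)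
            (W.ι.isCompact_preimage hV.isCompact) (by
              rw [← Scheme.Hom.comp_preimage, ht]
              exact hV.preimage ι) m y
      obtain ⟨e⟩ := Groth.L10.TopCoh.nonempty_H_push (Y := X.toTopCat) W.ι.base
        (Coh.toAb (F.restrict W.ι)) hloc (p + 1)
      intro y
      have h0 : ∀ z : Coh.HH W.toScheme (F.restrict W.ι) (p + 1), z = 0 := fun z =>
        (hTopEquiv (X := W.toScheme.toTopCat) _ (p + 1)).injective
          ((hu_eq_zero_of_supported t htc _ hFW ⊤ (by simpa using isCompact_univ)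
            (by rw [Scheme.Hom.preimage_top]; exact isAffineOpen_top Z) p _).trans (map_zero _).symm)
      refine (hTopEquiv (X := X.toTopCat) (Coh.toAb G) (p + 1)).symm.injective ?_
      refine e.symm.injective ?_
      exact (h0 _).trans (((congrArg e.symm (map_zero (hTopEquiv (X := X.toTopCat) (Coh.toAb G) (p + 1)).symm))).trans
        (map_zero e.symm)).symm
    -- compare
    let η : F ⟶ G := (Scheme.Modules.restrictAdjunction W.ι).unit.app F
    obtain ⟨hK, hC⟩ := supp0_kernel_cokernel η (T := T) fun U hU => by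
      have e : W.ι ''ᵁ W.ι ⁻¹ᵁ U = U := by
        rw [Scheme.Hom.image_preimage_eq_opensRange_inf, Scheme.Opens.opensRange_ι]
        exact inf_eq_right.2 fun y hy => Set.disjoint_left.1 hU hy
      exact Function.bijective_iff_has_inverse.2 ⟨fun y => rs F e.ge y,
        fun a => (rs_rs F e.le e.ge a).trans (rs_self F _ a),
        fun a => (rs_rs F e.ge e.le (show Γ(F, W.ι ''ᵁ W.ι ⁻¹ᵁ U) from a)).trans
          (rs_self F _ (show Γ(F, W.ι ''ᵁ W.ι ⁻¹ᵁ U) from a))⟩
    haveI : Coh.IsQCoh (kernel η) := isQCoh_kernel η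
    haveI : Coh.IsQCoh (cokernel η) := Groth.L16.Devissage.isQCoh_cokernel η
    let A := Groth.L21.Mod.toAbSh X
    let S₁ : ShortComplex X.Modules :=
      ShortComplex.mk (kernel.ι η) (Abelian.factorThruImage η)
        (by rw [← cancel_mono (Abelian.image.ι η), Category.assoc, Abelian.image.fac, kernel.condition, zero_comp])
    let S₂ : ShortComplex X.Modules :=
      ShortComplex.mk (Abelian.image.ι η) (cokernel.π η) (kernel.condition _)
    have h₁ : S₁.ShortExact :=
      { exact := ShortComplex.exact_of_f_is_kernel _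
          (isKernelOfComp _ _ (kernelIsKernel η) S₁.zero (Abelian.image.fac η)) }
    have h₂ : S₂.ShortExact := { exact := ShortComplex.exact_kernel _ }
    have hA₁ : (S₁.map A).ShortExact := h₁.map_of_exact A
    have hA₂ : (S₂.map A).ShortExact := h₂.map_of_exact A
    have hI : ∀ y : HU (X := X.toTopCat) ⊤ (Coh.toAb (Abelian.image η)) (p + 1), y = 0 := by
      intro y
      obtain ⟨z, rfl⟩ := Ext.covariant_sequence_exact₁ _ hA₂ y (hG _) (n₀ := p) rfl
      rcases p with _ | q
      · obtain rfl : k = 0 := by omega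
        rw [show z = 0 from hu_zero hC ⊤ (by simp [T]) 0 z, Ext.zero_comp]; rfl
      · rw [show z = 0 from ih (by omega) (cokernel η) hC q (by omega) z, Ext.zero_comp]; rfl
    obtain ⟨z, rfl⟩ := Ext.covariant_sequence_exact₂ _ hA₁ x (hI _)
    rw [show z = 0 from ih (by omega) (kernel η) hK p (by omega) z, Ext.zero_comp]; rfl

end Groth.L20.Strat
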