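import Groth.Agent.L16.QcqsPush
import Groth.Agent.L20.ThickAffine
import Groth.Agent.L19.Approx.IdealExt

/-!
# Sections of quasi-coherent modules supported on a closed subset, and ideals killing them
-/

universe u

open CategoryTheory AlgebraicGeometry TopologicalSpace Opposite

namespace Groth.L20.Strat

open Groth.L18.Frame (rs ro rs_rs ro_ro rs_smul rs_self ro_self)

set_option linter.style.haveILetI false
set_option backward.isDefEq.respectTransparency.types false

variable {X : Scheme.{u}}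

/-- Sections over opens disjoint from `T` vanish. -/
def Supp0 (M : X.Modules) (T : Set X) : Prop :=
  ∀ U : X.Opens, Disjoint (U : Set X) T → ∀ s : Γ(M, U), s = 0

variable {M : X.Modules} {T : Set X}

theorem eq_of_rs_eq {ι : Type*} {U : X.Opens} (V : ι → X.Opens) (hV : ∀ i, V i ≤ U) (hcov : U ≤ iSup V)
    {s t : Γ(M, U)} (h : ∀ i, rs M (hV i) s = rs M (hV i) t) : s = t :=
  TopCat.Sheaf.eq_of_locally_eq' (⟨M.presheaf, M.isSheaf⟩ : TopCat.Sheaf Ab X.toTopCat) V U
    (fun i => homOfLE (hV i)) hcov _ _ h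

/-- The complement of a closed set, as an open. -/
def away (hT : IsClosed T) : X.Opens := ⟨Tᶜ, hT.isOpen_compl⟩

theorem Supp0.rs_injective (hM : Supp0 M T) (hT : IsClosed T) {U U' : X.Opens} (h : U' ≤ U)
    (hUT : (U : Set X) ∩ T ⊆ U') : Function.Injective (rs M h) := by
  intro s t hst
  refine eq_of_rs_eq (fun b : Bool => if b then U' else U ⊓ away hT)
    (fun b => by cases b <;> simp [h]) (fun x hx => ?_) fun b => ?_
  · by_cases hxT : x ∈ T
    · exact Opens.mem_iSup.2 ⟨true, hUT ⟨hx, hxT⟩⟩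
    · exact Opens.mem_iSup.2 ⟨false, hx, hxT⟩
  · cases b
    · have hd : Disjoint ((U ⊓ away hT : X.Opens) : Set X) T :=
        Set.disjoint_left.2 fun x hx => hx.2
      exact (hM _ hd _).trans (hM _ hd _).symm
    · exact hst

theorem Supp0.rs_surjective (hM : Supp0 M T) (hT : IsClosed T) {U U' : X.Opens} (h : U' ≤ U)
    (hUT : (U : Set X) ∩ T ⊆ U') : Function.Surjective (rs M h) := by
  intro s
  let W : Bool → X.Opens := fun b => if b then U' else U ⊓ away hT
  let sf : ∀ b, Γ(M, W b) := fun b => match b with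
    | true => s
    | false => (0 : Γ(M, U ⊓ away hT))
  have hc : TopCat.Presheaf.IsCompatible (X := X.toTopCat) M.presheaf W sf := by
    intro a b
    have hz : ∀ (O : X.Opens), O ≤ away hT → ∀ p q : Γ(M, O), p = q := fun O hO p q =>
      (hM O (Set.disjoint_left.2 fun x hx => hO hx) p).trans (hM O (Set.disjoint_left.2 fun x hx => hO hx) q).symm
    cases a <;> cases b
    · rfl
    · exact hz (W false ⊓ W true) (inf_le_left.trans inf_le_right) _ _
    · exact hz (W true ⊓ W false) (inf_le_right.trans inf_le_right) _ _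
    · rfl
  obtain ⟨g, hg, -⟩ := TopCat.Sheaf.existsUnique_gluing'
    (⟨M.presheaf, M.isSheaf⟩ : TopCat.Sheaf Ab X.toTopCat) W U
    (fun b => homOfLE (by cases b <;> simp [W, h])) (fun x hx => by
      by_cases hxT : x ∈ T
      · exact Opens.mem_iSup.2 ⟨true, hUT ⟨hx, hxT⟩⟩
      · exact Opens.mem_iSup.2 ⟨false, hx, hxT⟩) sf hc
  exact ⟨g, hg true⟩

/-- `L` kills the section `s`. -/
def Kills (L : X.IdealSheafData) {U : X.Opens} (s : Γ(M, U)) : Prop :=
  ∀ (V : X.affineOpens) (h : V.1 ≤ U), ∀ a ∈ L.ideal V, a • rs M h s = 0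

variable {L : X.IdealSheafData} {U : X.Opens}

theorem Kills.res {s : Γ(M, U)} (hs : Kills L s) {U' : X.Opens} (h : U' ≤ U) : Kills L (rs M h s) :=
  fun V hV a ha => by rw [rs_rs]; exact hs V _ a ha

theorem Kills.sub {s t : Γ(M, U)} (hs : Kills L s) (ht : Kills L t) : Kills L (s - t) :=
  fun V hV a ha => by
    rw [show rs M hV (s - t) = rs M hV s - rs M hV t from map_sub _ _ _, smul_sub, hs V hV a ha,
      ht V hV a ha, sub_zero]

theorem Kills.smul {s : Γ(M, U)} (hs : Kills L s) (c : Γ(X, U)) : Kills L (c • s) :=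
  fun V hV a ha => by rw [rs_smul, smul_comm, hs V hV a ha, smul_zero]

theorem Kills.sum {κ : Type*} (f : Finset κ) {s : κ → Γ(M, U)} (hs : ∀ k, Kills L (s k)) :
    Kills L (∑ k ∈ f, s k) := fun V hV a ha => by
  rw [show rs M hV (∑ k ∈ f, s k) = ∑ k ∈ f, rs M hV (s k) from map_sum _ _ _, Finset.smul_sum]
  exact Finset.sum_eq_zero fun k _ => hs k V hV a ha

/-- On an affine open it suffices to check the sections of the ideal there. -/
theorem kills_of_affine {V : X.affineOpens} {s : Γ(M, V.1)} (h : ∀ a ∈ L.ideal V, a • s = 0) :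
    Kills L s := fun V' hV' a ha => by
  rw [← Groth.L19.Approx.map_res L hV'] at ha
  induction ha using Submodule.span_induction with
  | mem b hb =>
    obtain ⟨c, hc, rfl⟩ := hb
    exact (rs_smul M hV' c s).symm.trans ((congrArg (rs M hV') (h c hc)).trans (map_zero _))
  | zero => exact zero_smul _ _
  | add a b _ _ ha hb => rw [add_smul, ha, hb, add_zero]
  | smul r b _ hb => rw [smul_eq_mul, mul_smul, hb, smul_zero]

/-- Killing is local. -/
theorem kills_of_cover {s : Γ(M, U)} {ι : Type*} (V : ι → X.Opens) (hV : ∀ i, V i ≤ U)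
    (hcov : U ≤ iSup V) (h : ∀ i, Kills L (rs M (hV i) s)) : Kills L s := by
  intro W hW a ha
  have hx : ∀ x : W.1, ∃ (W' : X.affineOpens) (h1 : W'.1 ≤ W.1), x.1 ∈ W'.1 ∧ ∃ i, W'.1 ≤ V i := by
    intro x
    obtain ⟨i, hi⟩ := Opens.mem_iSup.1 (hcov (hW x.2))
    obtain ⟨_, ⟨W', hW', rfl⟩, hxW', hle⟩ :=
      X.isBasis_affineOpens.exists_subset_of_mem_open (show x.1 ∈ W.1 ⊓ V i from ⟨x.2, hi⟩) (W.1 ⊓ V i).2
    exact ⟨⟨W', hW'⟩, fun y hy => (hle hy).1, hxW', i, fun y hy => (hle hy).2⟩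
  choose W' hW' hxW' k hk using hx
  refine eq_of_rs_eq (fun x : W.1 => (W' x).1) hW' (fun x hx => Opens.mem_iSup.2 ⟨⟨x, hx⟩, hxW' ⟨x, hx⟩⟩)
    fun x => ?_
  have ha' : ro (hW' x) a ∈ L.ideal (W' x) := by
    rw [← Groth.L19.Approx.map_res L (hW' x)]
    exact Ideal.mem_map_of_mem _ ha
  have := h (k x) (W' x) (hk x) _ ha'
  rw [rs_rs] at this
  rw [rs_smul, rs_rs]
  exact this.trans (map_zero _).symm

/-- Functions with the same image on the closed subscheme act alike on killed sections. -/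
theorem Kills.smul_eq {s : Γ(M, U)} (hs : Kills L s) {a b : Γ(X, U)}
    (hab : L.subschemeι.app U a = L.subschemeι.app U b) : a • s = b • s := by
  have hV : ∀ x : U, ∃ V : X.affineOpens, x.1 ∈ V.1 ∧ V.1 ≤ U := fun x => by
    obtain ⟨_, ⟨V, hV, rfl⟩, hxV, hle⟩ := X.isBasis_affineOpens.exists_subset_of_mem_open x.2 U.2
    exact ⟨⟨V, hV⟩, hxV, hle⟩
  choose V hxV hle using hV
  refine eq_of_rs_eq (fun x : U => (V x).1) hle (fun x hx => Opens.mem_iSup.2 ⟨⟨x, hx⟩, hxV ⟨x, hx⟩⟩)
    fun x => ?_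
  rw [rs_smul, rs_smul, ← sub_eq_zero, ← sub_smul]
  refine hs (V x) (hle x) _ ?_
  rw [← L.ker_subschemeι_app (V x), RingHom.mem_ker, map_sub, sub_eq_zero]
  have e : ∀ c : Γ(X, U), L.subschemeι.app (V x).1 (ro (hle x) c) =
      L.subscheme.presheaf.map (homOfLE (L.subschemeι.preimage_mono (hle x))).op (L.subschemeι.app U c) :=
    fun c => ConcreteCategory.congr_hom (L.subschemeι.naturality (homOfLE (hle x)).op) c
  exact (e a).trans ((congrArg _ hab).trans (e b).symm)

/-- A section supported on the zero set of a finite type ideal is killed by one of its powers. -/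
theorem exists_kills [Coh.IsQCoh M] {J : X.IdealSheafData} (hfg : Groth.L19.Approx.FGOn J ⊤)
    (hM : Supp0 M J.support) (hU : IsCompact (U : Set X)) (s : Γ(M, U)) :
    ∃ N : ℕ, ∀ n, N ≤ n → Kills (J ^ n) s := by
  obtain ⟨ι, _, V, hV, hVU, hcov⟩ := Groth.L16.QcqsPush.exists_affine_cover hU
  have h0 : ∀ i, ∃ N : ℕ, J.ideal ⟨V i, hV i⟩ ^ N ≤
      LinearMap.ker (LinearMap.toSpanSingleton Γ(X, V i) Γ(M, V i) (rs M (hVU i) s)) := by
    intro i
    refine Ideal.exists_pow_le_of_le_radical_of_fg (fun a ha => ?_) (hfg _ le_top)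
    have hd : Disjoint (X.basicOpen a : Set X) J.support := by
      refine Set.disjoint_left.2 fun x hx hxJ => ?_
      have hz : x ∈ X.zeroLocus (U := V i) (J.ideal ⟨V i, hV i⟩ : Set Γ(X, V i)) :=
        ((J.mem_support_iff_of_mem (U := ⟨V i, hV i⟩) (X.basicOpen_le a hx)).1 hxJ)
      exact (X.mem_zeroLocus_iff _ _).1 hz a ha hx
    obtain ⟨n, hn⟩ := Groth.L16.QcqsPush.exists_pow_smul_eq_zero M (hV i).isCompact a (rs M (hVU i) s)
      (hM _ hd _)
    exact ⟨n, LinearMap.mem_ker.2 hn⟩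
  choose N hN using h0
  obtain ⟨B, hB⟩ := (Set.finite_range N).bddAbove
  refine ⟨B, fun n hn => kills_of_cover V hVU hcov fun i => kills_of_affine (V := ⟨V i, hV i⟩) fun a ha => ?_⟩
  rw [Scheme.IdealSheafData.ideal_pow, Pi.pow_apply] at ha
  exact LinearMap.mem_ker.1 (hN i (Ideal.pow_le_pow_right ((hB ⟨i, rfl⟩).trans hn) ha))

/-- A closed subset with quasi-compact complement, given as the image of an affine scheme, carries
finite type ideals all of whose powers have affine zero schemes. -/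
theorem exists_ideal [CompactSpace X] [QuasiSeparatedSpace X] {Z : Scheme.{u}} (t : Z ⟶ X)
    [IsClosedImmersion t] [IsAffine Z] (hc : IsCompact (Set.range t)ᶜ) :
    ∃ J : X.IdealSheafData, Groth.L19.Approx.FGOn J ⊤ ∧ (J.support : Set X) = Set.range t ∧
      ∀ n, 0 < n → ((J ^ n).support : Set X) = Set.range t ∧ IsAffine (J ^ n).subscheme := by
  have hker : (t.ker.support : Set X) = Set.range t := by
    rw [Scheme.Hom.support_ker]
    exact t.isClosedEmbedding.isClosed_range.closure_eq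
  have hx : ∀ x : {x : X // x ∉ Set.range t}, ∃ (O : X.Opens) (K : X.IdealSheafData),
      x.1 ∈ O ∧ K ≤ t.ker ∧ Groth.L19.Approx.FGOn K ⊤ ∧ Disjoint (O : Set X) K.support := by
    rintro ⟨x, hx⟩
    obtain ⟨_, ⟨V, hV, rfl⟩, hxV, -⟩ :=
      X.isBasis_affineOpens.exists_subset_of_mem_open (Set.mem_univ x) isOpen_univ
    rw [← hker, SetLike.mem_coe, Scheme.IdealSheafData.mem_support_iff_of_mem (U := ⟨V, hV⟩) hxV,
      Scheme.mem_zeroLocus_iff] at hx
    push Not at hx
    obtain ⟨a, ha, hxa⟩ := hx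
    obtain ⟨K, hK, hKfg, haK⟩ := Groth.L19.Approx.exists_fgOn_mem t.ker ⟨V, hV⟩ (a := a) ha
    refine ⟨X.basicOpen a, K, hxa, hK, hKfg, Set.disjoint_left.2 fun y hy hyK => ?_⟩
    rw [SetLike.mem_coe, Scheme.IdealSheafData.mem_support_iff_of_mem (U := ⟨V, hV⟩) (X.basicOpen_le a hy),
      Scheme.mem_zeroLocus_iff] at hyK
    exact hyK a haK hy
  choose O K hxO hK hKfg hd using hx
  obtain ⟨s, hs⟩ := hc.elim_finite_subcover (fun x => (O x : Set X)) (fun x => (O x).2)
    (fun x hx => Set.mem_iUnion.2 ⟨⟨x, hx⟩, hxO _⟩)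
  let J : X.IdealSheafData := s.sup K
  have hJ : J ≤ t.ker := Finset.sup_le fun x _ => hK x
  have hJfg : Groth.L19.Approx.FGOn J ⊤ :=
    Finset.sup_induction (p := fun K' => Groth.L19.Approx.FGOn K' ⊤) (Groth.L19.Approx.fgOn_bot _)
      (fun _ h _ h' => h.sup h') fun x _ => hKfg x
  have hJs : (J.support : Set X) = Set.range t := by
    refine Set.Subset.antisymm (fun y hy => ?_) (hker ▸ Scheme.IdealSheafData.support_antitone hJ)
    by_contra hyt
    obtain ⟨x, hx, hyx⟩ := Set.mem_iUnion₂.1 (hs hyt)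
    exact Set.disjoint_left.1 (hd x) hyx
      (Scheme.IdealSheafData.support_antitone (Finset.le_sup (f := K) hx) hy)
  refine ⟨J, hJfg, hJs, fun n hn => ?_⟩
  have h1 : ((J ^ n).support : Set X) = Set.range t := by rw [J.support_pow n hn.ne', hJs]
  have hle : J ^ n ≤ t.ker := by
    intro U
    rw [Scheme.IdealSheafData.ideal_pow, Pi.pow_apply]
    exact (Ideal.pow_le_self hn.ne').trans (hJ U)
  refine ⟨h1, ?_⟩
  let l : Z ⟶ (J ^ n).subscheme := IsClosedImmersion.lift (J ^ n).subschemeι t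
    (by rwa [Scheme.IdealSheafData.ker_subschemeι])
  have hl : l ≫ (J ^ n).subschemeι = t := IsClosedImmersion.lift_fac _ _ _
  haveI : IsClosedImmersion (l ≫ (J ^ n).subschemeι) := by rwa [hl]
  haveI : IsClosedImmersion l := IsClosedImmersion.of_comp l (J ^ n).subschemeι
  refine Groth.L20.ThickAffine.isAffine_of_surjective l fun y => ?_
  have hy : (J ^ n).subschemeι y ∈ Set.range t := by
    rw [← h1, ← Scheme.IdealSheafData.range_subschemeι]; exact ⟨y, rfl⟩
  obtain ⟨z, hz⟩ := hy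
  refine ⟨z, (J ^ n).subschemeι.isClosedEmbedding.injective ?_⟩
  rw [← Scheme.Hom.comp_apply, hl, hz]

end Groth.L20.Strat
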