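import Groth.Prelude.Def_MoreMor
import Groth.Agent.L18.KerReduced
import Mathlib.AlgebraicGeometry.Morphisms.QuasiSeparated

/-!
# Construction of affine stratifications
-/

universe u

open CategoryTheory AlgebraicGeometry TopologicalSpace

namespace Groth.L20.Strat

set_option linter.style.haveILetI false
set_option backward.isDefEq.respectTransparency.types false

variable {X : Scheme.{u}}

/-- The reduced stratum `V ∩ C` with its affine immersion. -/
theorem exists_stratum {V : X.Opens} (hV : IsAffineOpen V) {C : Set X} (hC : IsClosed C)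
    (h : ∀ x : X, ∃ W : X.Opens, x ∈ W ∧ IsAffineOpen W ∧
      ((V : Set X) ∩ C ⊆ W ∨ Disjoint ((V : Set X) ∩ C) W ∨ IsAffineOpen (V ⊓ W))) :
    ∃ (Z : Scheme.{u}) (ι : Z ⟶ X), IsImmersion ι ∧ IsAffine Z ∧ IsAffineHom ι ∧
      Set.range ι = (V : Set X) ∩ C := by
  haveI : IsAffine V.toScheme := hV
  let T : Closeds V.toScheme := ⟨V.ι ⁻¹' C, hC.preimage V.ι.continuous⟩
  let I := Scheme.IdealSheafData.vanishingIdeal T
  have hT : Set.range I.subschemeι = V.ι ⁻¹' C := by
    rw [Scheme.IdealSheafData.range_subschemeι, Groth.L18.support_vanishingIdeal]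
    rfl
  haveI : IsAffine I.subscheme := isAffine_of_isAffineHom I.subschemeι
  have hr : Set.range (I.subschemeι ≫ V.ι) = (V : Set X) ∩ C := by
    rw [Scheme.Hom.comp_base, TopCat.coe_comp, Set.range_comp, hT, Set.image_preimage_eq_inter_range,
      Scheme.Opens.range_ι, Set.inter_comm]
  refine ⟨I.subscheme, I.subschemeι ≫ V.ι, inferInstance, inferInstance, ?_, hr⟩
  refine isAffineHom_of_forall_exists_isAffineOpen _ fun x => ?_
  obtain ⟨W, hxW, hW, h⟩ := h x
  refine ⟨W, hxW, hW, ?_⟩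
  rcases h with h | h | h
  · rw [show (I.subschemeι ≫ V.ι) ⁻¹ᵁ W = ⊤ from TopologicalSpace.Opens.ext
      (Set.eq_univ_of_forall fun z => h (hr.le ⟨z, rfl⟩))]
    exact isAffineOpen_top _
  · rw [show (I.subschemeι ≫ V.ι) ⁻¹ᵁ W = ⊥ from TopologicalSpace.Opens.ext
      (Set.eq_empty_iff_forall_notMem.2 fun z hz => Set.disjoint_left.1 h (hr.le ⟨z, rfl⟩) hz)]
    exact isAffineOpen_bot _
  · rw [Scheme.Hom.comp_preimage]
    refine IsAffineOpen.preimage ?_ I.subschemeι
    rw [← V.ι.isAffineOpen_iff_of_isOpenImmersion, Scheme.Hom.image_preimage_eq_opensRange_inf,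
      Scheme.Opens.opensRange_ι]
    exact h

/-- An empty stratum. -/
theorem exists_empty_stratum :
    ∃ (Z : Scheme.{u}) (ι : Z ⟶ X), IsImmersion ι ∧ IsAffine Z ∧ IsAffineHom ι ∧ Set.range ι = ∅ := by
  obtain ⟨Z, ι, h1, h2, h3, h4⟩ := exists_stratum (isAffineOpen_bot X) (C := Set.univ) isClosed_univ
    fun x => by
      obtain ⟨_, ⟨W, hW, rfl⟩, hxW, -⟩ :=
        X.isBasis_affineOpens.exists_subset_of_mem_open (Set.mem_univ x) isOpen_univ
      exact ⟨W, hxW, hW, Or.inl (by simp)⟩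
  exact ⟨Z, ι, h1, h2, h3, by simpa using h4⟩

/-- Sublevel sets are closed if the superlevel sets contain neighbourhoods. -/
theorem isClosed_sublevel {n : ℕ} (s : X → Fin (n + 1))
    (h : ∀ x, ∃ O : X.Opens, x ∈ O ∧ ∀ y ∈ O, s x ≤ s y) (i : Fin (n + 1)) : IsClosed {x : X | s x ≤ i} := by
  rw [← isOpen_compl_iff, isOpen_iff_forall_mem_open]
  intro x hx
  obtain ⟨O, hxO, hO⟩ := h x
  exact ⟨O, fun y hy hy' => hx (le_trans (hO y hy) hy'), O.2, hxO⟩

/-- The index of the last open containing a point. -/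
theorem exists_last {n : ℕ} (U : Fin (n + 1) → X.Opens) (hcov : ⨆ i, U i = ⊤) (x : X) :
    ∃ i, x ∈ U i ∧ ∀ j, x ∈ U j → j ≤ i := by
  classical
  obtain ⟨i₀, hi₀⟩ := Opens.mem_iSup.1 (hcov.ge (show x ∈ (⊤ : X.Opens) from trivial))
  have hne : (Finset.univ.filter fun i => x ∈ U i).Nonempty := ⟨i₀, by simp [hi₀]⟩
  exact ⟨_, (Finset.mem_filter.1 (Finset.max'_mem _ hne)).2, fun j hj => Finset.le_max' _ j (by simp [hj])⟩

/-- Separated schemes are stratified by an affine open cover. -/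
theorem hasAffineStratification_of_separated [X.IsSeparated] {n : ℕ} (U : Fin (n + 1) → X.Opens)
    (hU : ∀ i, IsAffineOpen (U i)) (hcov : ⨆ i, U i = ⊤) : MoreMor.HasAffineStratification X n := by
  choose s hs hmax using exists_last U hcov
  refine ⟨s, isClosed_sublevel s fun x => ⟨U (s x), hs x, fun y hy => hmax y _ hy⟩, fun i => ?_⟩
  obtain ⟨Z, ι, h1, h2, h3, h4⟩ := exists_stratum (hU i)
    (C := ((⨆ j, ⨆ (_ : i < j), U j : X.Opens) : Set X)ᶜ) (Opens.isOpen _).isClosed_compl fun x => by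
      obtain ⟨_, ⟨W, hW, rfl⟩, hxW, -⟩ :=
        X.isBasis_affineOpens.exists_subset_of_mem_open (Set.mem_univ x) isOpen_univ
      exact ⟨W, hxW, hW, Or.inr (Or.inr ((hU i).inf hW))⟩
  refine ⟨Z, ι, h1, h2, h3, h4.trans ?_⟩
  ext x
  simp only [Set.mem_inter_iff, Set.mem_compl_iff, SetLike.mem_coe, Opens.mem_iSup, not_exists,
    Set.mem_ofPred_eq]
  constructor
  · rintro ⟨h1, h2⟩
    exact le_antisymm (not_lt.1 fun hlt => h2 _ hlt (hs x)) (hmax x _ h1)
  · rintro rfl
    exact ⟨hs x, fun j hj hjx => not_le.2 hj (hmax x _ hjx)⟩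

/-- Quasi-compact quasi-separated schemes have affine stratifications. -/
theorem exists_hasAffineStratification [CompactSpace X] [QuasiSeparatedSpace X] :
    ∃ n, MoreMor.HasAffineStratification X n := by
  classical
  rcases isEmpty_or_nonempty X with hX | hX
  · refine ⟨0, fun x => isEmptyElim x, fun i => ?_, fun i => ?_⟩
    · convert isClosed_empty
      exact Set.eq_empty_of_isEmpty _
    · obtain ⟨Z, ι, h1, h2, h3, h4⟩ := exists_empty_stratum (X := X)
      exact ⟨Z, ι, h1, h2, h3, h4.trans (Set.eq_empty_of_isEmpty _).symm⟩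
  obtain ⟨S, hSa, hS⟩ : ∃ S : Finset X.Opens, (∀ U ∈ S, IsAffineOpen U) ∧ ∀ x : X, ∃ U ∈ S, x ∈ U := by
    choose U hU using fun x : X => X.isBasis_affineOpens.exists_subset_of_mem_open (Set.mem_univ x) isOpen_univ
    have hUo : ∀ x, IsOpen (U x) := fun x => by
      obtain ⟨⟨W, hW, e⟩, -, -⟩ := hU x
      exact e ▸ W.2
    obtain ⟨t, ht⟩ := isCompact_univ.elim_finite_subcover U hUo
      fun x _ => Set.mem_iUnion.2 ⟨x, (hU x).2.1⟩
    refine ⟨t.image fun x => ⟨U x, hUo x⟩, fun W hW => ?_, fun x => ?_⟩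
    · obtain ⟨x, -, rfl⟩ := Finset.mem_image.1 hW
      obtain ⟨⟨W, hW, e⟩, -, -⟩ := hU x
      rwa [show (⟨U x, hUo x⟩ : X.Opens) = W from Opens.ext e.symm]
    · obtain ⟨y, hy, hxy⟩ := Set.mem_iUnion₂.1 (ht (Set.mem_univ x))
      exact ⟨_, Finset.mem_image_of_mem _ hy, hxy⟩
  obtain ⟨m, hm⟩ : ∃ m, S.card = m + 1 := by
    refine ⟨S.card - 1, ?_⟩
    obtain ⟨U, hU, -⟩ := hS (Classical.arbitrary X)
    have := Finset.card_pos.2 ⟨U, hU⟩
    omega
  let U : Fin (m + 1) → X.Opens := fun i => (S.equivFin.symm (i.cast hm.symm)).1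
  have hU : ∀ i, IsAffineOpen (U i) := fun i => hSa _ (S.equivFin.symm (i.cast hm.symm)).2
  have hcov : ⨆ i, U i = ⊤ := top_le_iff.1 fun x _ => by
    obtain ⟨W, hW, hxW⟩ := hS x
    exact Opens.mem_iSup.2 ⟨(S.equivFin ⟨W, hW⟩).cast hm, by simpa [U] using hxW⟩
  have hF : ∀ i j, ∃ F : Finset Γ(X, U i), ∀ x ∈ U i, (x ∈ U j ↔ ∃ f ∈ F, x ∈ X.basicOpen f) := by
    intro i j
    have hc : IsCompact ((U i ⊓ U j : X.Opens) : Set X) :=
      QuasiSeparatedSpace.inter_isCompact _ _ (U i).2 (hU i).isCompact (U j).2 (hU j).isCompact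
    have hc' : ∀ p : (U i ⊓ U j : X.Opens), ∃ f : Γ(X, U i), X.basicOpen f ≤ U i ⊓ U j ∧ p.1 ∈ X.basicOpen f :=
      fun p => (hU i).exists_basicOpen_le p p.2.1
    choose f hf hpf using hc'
    obtain ⟨t, ht⟩ := hc.elim_finite_subcover (fun p => (X.basicOpen (f p) : Set X))
      (fun p => (X.basicOpen (f p)).2) fun p hp => Set.mem_iUnion.2 ⟨⟨p, hp⟩, hpf _⟩
    refine ⟨t.image f, fun x hx => ⟨fun hxj => ?_, ?_⟩⟩
    · obtain ⟨p, hp, hxp⟩ := Set.mem_iUnion₂.1 (ht ⟨hx, hxj⟩)
      exact ⟨_, Finset.mem_image_of_mem f hp, hxp⟩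
    · rintro ⟨_, hg, hxg⟩
      obtain ⟨p, -, rfl⟩ := Finset.mem_image.1 hg
      exact (hf p hxg).2
  choose F hF using hF
  let κ : Fin (m + 1) → Type u := fun i => (j : Fin (m + 1)) × ↥(F i j)
  let f : ∀ i, κ i → Γ(X, U i) := fun i q => q.2.1
  choose e he hmax using exists_last U hcov
  let σ : ∀ x, Finset (κ (e x)) := fun x => Finset.univ.filter fun q => x ∈ X.basicOpen (f _ q)
  let N := ∑ i, Fintype.card (κ i)
  let P := (i : Fin (m + 1)) × Finset (κ i)
  let enc := Fintype.equivFin P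
  let r : P → ℕ := fun p => (p.1.val * (N + 1) + p.2.card) * Fintype.card P + (enc p).val
  have hr : ∀ p q : P, r p = r q → p = q := fun p q h => by
    apply enc.injective
    apply Fin.ext
    have h1 := congrArg (· % Fintype.card P) h
    simpa [r, Nat.mul_comm _ (Fintype.card P), Nat.mul_add_mod, Nat.mod_eq_of_lt] using h1
  obtain ⟨K, hK⟩ := (Set.finite_range r).bddAbove
  let s : X → Fin (K + 1) := fun x => ⟨r ⟨e x, σ x⟩, Nat.lt_succ_of_le (hK ⟨_, rfl⟩)⟩
  -- the neighbourhood of a piece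
  let V : ∀ i, Finset (κ i) → X.Opens := fun i A => U i ⊓ A.inf fun q => X.basicOpen (f i q)
  have hVa : ∀ i A, IsAffineOpen (V i A) := by
    intro i A
    suffices ∃ g : Γ(X, U i), V i A = X.basicOpen g by
      obtain ⟨g, hg⟩ := this
      exact hg ▸ (hU i).basicOpen g
    induction A using Finset.induction with
    | empty => exact ⟨1, by simp [V, Scheme.basicOpen_of_isUnit _ isUnit_one]⟩
    | insert q A hq ih =>
      obtain ⟨g, hg⟩ := ih
      refine ⟨f i q * g, ?_⟩
      rw [Scheme.basicOpen_mul, ← hg]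
      simp only [V, Finset.inf_insert]
      exact inf_left_comm _ _ _
  have hmemV : ∀ i A (y : X), y ∈ V i A ↔ y ∈ U i ∧ ∀ q ∈ A, y ∈ X.basicOpen (f i q) := by
    intro i A y
    simp only [V, Opens.mem_inf]
    refine and_congr_right fun _ => ?_
    induction A using Finset.induction with
    | empty => simp
    | insert q A hq ih => simp [Finset.inf_insert, ih]
  refine ⟨K, s, isClosed_sublevel s fun x => ⟨V (e x) (σ x), (hmemV _ _ _).2
    ⟨he x, fun q hq => (Finset.mem_filter.1 hq).2⟩, fun y hy => ?_⟩, fun v => ?_⟩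
  · obtain ⟨hy1, hy2⟩ := (hmemV _ _ _).1 hy
    have hey := hmax y _ hy1
    change r ⟨e x, σ x⟩ ≤ r ⟨e y, σ y⟩
    have hcard : ∀ z, (σ z).card ≤ N := fun z => (Finset.card_le_univ _).trans
      (Finset.single_le_sum (f := fun i => Fintype.card (κ i)) (fun _ _ => Nat.zero_le _) (Finset.mem_univ _))
    rcases hey.lt_or_eq with hlt | heq
    · have h1 : (e x).val * (N + 1) + (σ x).card < (e y).val * (N + 1) + (σ y).card := by
        have := Nat.mul_le_mul_right (N + 1) (Nat.succ_le_of_lt (Fin.lt_def.1 hlt))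
        have := hcard x
        rw [Nat.succ_mul] at *
        omega
      have h2 := Nat.mul_le_mul_right (Fintype.card P) (Nat.succ_le_of_lt h1)
      have h3 := (enc ⟨e x, σ x⟩).isLt
      rw [Nat.succ_mul] at h2
      simp only [r]
      omega
    · have key : ∀ (i : Fin (m + 1)) (A : Finset (κ i)) (h : i = e y), (∀ q ∈ A, y ∈ X.basicOpen (f i q)) →
          r ⟨i, A⟩ ≤ r ⟨e y, σ y⟩ := by
        rintro i A rfl hA
        have hsub : A ⊆ σ y := fun q hq => Finset.mem_filter.2 ⟨Finset.mem_univ _, hA q hq⟩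
        rcases (Finset.card_le_card hsub).lt_or_eq with h | h
        · have h2 := Nat.mul_le_mul_right (Fintype.card P)
            (Nat.succ_le_of_lt (Nat.add_lt_add_left h ((e y).val * (N + 1))))
          have h3 := (enc ⟨e y, A⟩).isLt
          rw [Nat.succ_mul] at h2
          simp only [r]
          omega
        · rw [Finset.eq_of_subset_of_card_le hsub h.ge]
      exact key _ _ heq hy2
  · by_cases hv : ∃ x, s x = v
    · obtain ⟨x, rfl⟩ := hv
      let C : Set X := {y | (∀ j, e x < j → y ∉ U j) ∧ ∀ q, q ∉ σ x → y ∉ X.basicOpen (f (e x) q)}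
      have hC : IsClosed C := by
        have : C = (⋂ j, ⋂ (_ : e x < j), (U j : Set X)ᶜ) ∩
            ⋂ q, ⋂ (_ : q ∉ σ x), (X.basicOpen (f (e x) q) : Set X)ᶜ := by
          ext y; simp [C]
        rw [this]
        exact (isClosed_iInter fun j => isClosed_iInter fun _ => (U j).2.isClosed_compl).inter
          (isClosed_iInter fun q => isClosed_iInter fun _ => (X.basicOpen _).2.isClosed_compl)
      obtain ⟨Z, ι, h1, h2, h3, h4⟩ := exists_stratum (hVa (e x) (σ x)) hC fun z => by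
        refine ⟨U (e z), he z, hU _, ?_⟩
        by_cases hq : ∃ q ∈ σ x, q.1 = e z
        · obtain ⟨q, hq, hqj⟩ := hq
          refine Or.inl fun y hy => ?_
          obtain ⟨hy1, hy2⟩ := (hmemV _ _ _).1 hy.1
          exact hqj ▸ (hF _ q.1 y hy1).2 ⟨_, q.2.2, hy2 q hq⟩
        · refine Or.inr (Or.inl (Set.disjoint_left.2 fun y hy hyj => ?_))
          obtain ⟨hy1, hy2⟩ := (hmemV _ _ _).1 hy.1
          obtain ⟨g, hg, hyg⟩ := (hF _ _ y hy1).1 hyj
          exact hy.2.2 ⟨e z, g, hg⟩ (fun h => hq ⟨_, h, rfl⟩) hyg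
      refine ⟨Z, ι, h1, h2, h3, h4.trans ?_⟩
      ext y
      constructor
      · rintro ⟨hyV, hy1, hy2⟩
        obtain ⟨hyU, hyq⟩ := (hmemV _ _ _).1 hyV
        have hey : e x = e y := le_antisymm (hmax y _ hyU) (not_lt.1 fun h => hy1 _ h (he y))
        have key : ∀ (i : Fin (m + 1)) (A : Finset (κ i)), i = e y →
            (∀ q, q ∈ A ↔ y ∈ X.basicOpen (f i q)) → (⟨e y, σ y⟩ : P) = ⟨i, A⟩ := by
          rintro i A rfl hA
          congr 1
          ext q
          simp [σ, hA q]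
        exact Fin.ext (congrArg r (key (e x) (σ x) hey
          fun q => ⟨hyq q, fun h => not_not.1 fun hq => hy2 q hq h⟩))
      · intro hy
        have h := hr _ _ (congrArg Fin.val hy)
        have key : ∀ p : P, p = ⟨e y, σ y⟩ → y ∈ V p.1 p.2 ∧ (∀ j, p.1 < j → y ∉ U j) ∧
            ∀ q, q ∉ p.2 → y ∉ X.basicOpen (f p.1 q) := by
          rintro _ rfl
          exact ⟨(hmemV _ _ _).2 ⟨he y, fun q hq => (Finset.mem_filter.1 hq).2⟩,
            fun j hj hyj => not_le.2 hj (hmax y j hyj),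
            fun q hq hyq => hq (Finset.mem_filter.2 ⟨Finset.mem_univ _, hyq⟩)⟩
        exact key _ h.symm
    · obtain ⟨Z, ι, h1, h2, h3, h4⟩ := exists_empty_stratum (X := X)
      exact ⟨Z, ι, h1, h2, h3, h4.trans (Set.eq_empty_iff_forall_notMem.2 fun x hx => hv ⟨x, hx⟩).symm⟩

end Groth.L20.Strat
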