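import Groth.Agent.L20.Strat.Kills

/-!
# Killed Čech cocycles on a cover tracing basic opens on an affine closed subscheme are coboundaries
-/

universe u

open CategoryTheory AlgebraicGeometry TopologicalSpace Opposite

namespace Groth.L20.Strat

open Groth.L18.Frame (rs ro rs_rs ro_ro rs_smul rs_self ro_self)

set_option linter.style.haveILetI false
set_option backward.isDefEq.respectTransparency.types false

variable {X : Scheme.{u}} {M : X.Modules} {L : X.IdealSheafData}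

theorem rs_sub {U V : X.Opens} (h : V ≤ U) (a b : Γ(M, U)) : rs M h (a - b) = rs M h a - rs M h b :=
  map_sub _ _ _

theorem ro_sum {X : Scheme.{u}} {U V : X.Opens} (h : V ≤ U) {κ : Type*} (F : Finset κ) (a : κ → Γ(X, U)) :
    ro h (∑ k ∈ F, a k) = ∑ k ∈ F, ro h (a k) := map_sum _ _ _

theorem ro_one {X : Scheme.{u}} {U V : X.Opens} (h : V ≤ U) : ro h (1 : Γ(X, U)) = 1 := map_one _

theorem app_ro {U V : X.Opens} (h : V ≤ U) (a : Γ(X, U)) :
    L.subschemeι.app V (ro h a) =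
      ro (L.subschemeι.preimage_mono h) (L.subschemeι.app U a) :=
  ConcreteCategory.congr_hom (L.subschemeι.naturality (homOfLE h).op) a

/-- A killed section on `V_r ⊓ V` extends, up to powers of a lift `c` of the equation of `V_r`. -/
theorem exists_ext [Coh.IsQCoh M] {T : Set X} (hM : Supp0 M T) (hT : IsClosed T)
    (hfg : Groth.L19.Approx.FGOn L ⊤) (V : X.affineOpens) (V' : X.Opens) (c : Γ(X, V.1))
    (hc : (X.basicOpen c : Set X) ∩ T = ((V' ⊓ V.1 : X.Opens) : Set X) ∩ T)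
    (s : Γ(M, V' ⊓ V.1)) (hs : Kills L s) :
    ∃ N : ℕ, ∀ n, N ≤ n → ∃ t : Γ(M, V.1), Kills L t ∧
      rs M (inf_le_left : X.basicOpen c ⊓ V' ≤ X.basicOpen c) (rs M (X.basicOpen_le c) t) =
        ro (inf_le_left.trans (X.basicOpen_le c) : X.basicOpen c ⊓ V' ≤ V.1) (c ^ n) •
          rs M (le_inf inf_le_right (inf_le_left.trans (X.basicOpen_le c)) : X.basicOpen c ⊓ V' ≤ V' ⊓ V.1) s := by
  classical
  have hle : X.basicOpen c ⊓ V' ≤ V' ⊓ V.1 := le_inf inf_le_right (inf_le_left.trans (X.basicOpen_le c))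
  have hT' : (X.basicOpen c : Set X) ∩ T ⊆ (X.basicOpen c ⊓ V' : X.Opens) := fun x hx =>
    ⟨hx.1, (hc.le hx).1.1⟩
  obtain ⟨σ, hσ⟩ := hM.rs_surjective hT (inf_le_left : X.basicOpen c ⊓ V' ≤ X.basicOpen c) hT' (rs M hle s)
  obtain ⟨n₁, t₁, ht₁⟩ := Groth.L16.QCohSect.exists_pow_smul_eq_res V.2 M c σ
  have h0 : ∀ a ∈ L.ideal V, rs M (X.basicOpen_le c) (a • t₁) = 0 := by
    intro a ha
    rw [rs_smul, ht₁, smul_comm]
    suffices ro (X.basicOpen_le c) a • σ = 0 by rw [this, smul_zero]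
    refine hM.rs_injective hT (inf_le_left : X.basicOpen c ⊓ V' ≤ X.basicOpen c) hT' ?_
    rw [rs_smul, hσ, ro_ro]
    refine Eq.trans ?_ (map_zero _).symm
    have hk := hs.res hle
    obtain ⟨ι, W, hW, hcov⟩ : ∃ (ι : Type u) (W : ι → X.affineOpens), (∀ i, (W i).1 ≤ X.basicOpen c ⊓ V') ∧
        X.basicOpen c ⊓ V' ≤ ⨆ i, (W i).1 :=
      ⟨_, fun W : {W : X.affineOpens // W.1 ≤ X.basicOpen c ⊓ V'} => W.1, fun W => W.2,
        Groth.L19.Approx.le_iSup_affineOpens _⟩
    refine eq_of_rs_eq (fun i => (W i).1) hW hcov fun i => ?_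
    rw [rs_smul, ro_ro]
    refine Eq.trans (hk (W i) (hW i) _ ?_) (map_zero _).symm
    rw [← Groth.L19.Approx.map_res L ((hW i).trans (inf_le_left.trans (X.basicOpen_le c)))]
    exact Ideal.mem_map_of_mem _ ha
  obtain ⟨S, hS⟩ := hfg V le_top
  choose m hm using fun a : S => Groth.L16.QcqsPush.exists_pow_smul_eq_zero M V.2.isCompact c
    (a.1 • t₁) (h0 a.1 (hS ▸ Submodule.subset_span a.2))
  obtain ⟨B, hB⟩ := (Set.finite_range m).bddAbove
  have hkill : ∀ a ∈ L.ideal V, c ^ B • a • t₁ = 0 := by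
    intro a ha
    rw [← hS] at ha
    induction ha using Submodule.span_induction with
    | mem b hb =>
      rw [← Nat.sub_add_cancel (hB ⟨⟨b, hb⟩, rfl⟩), pow_add, mul_smul, hm ⟨b, hb⟩, smul_zero]
    | zero => rw [zero_smul, smul_zero]
    | add a b _ _ ha hb => rw [add_smul, smul_add, ha, hb, add_zero]
    | smul r b _ hb => rw [smul_eq_mul, mul_smul, smul_comm, hb, smul_zero]
  refine ⟨n₁ + B, fun n hn => ⟨c ^ (n - n₁) • t₁, kills_of_affine fun a ha => ?_, ?_⟩⟩
  · rw [smul_comm, show n - n₁ = (n - n₁ - B) + B by omega, pow_add, mul_smul, hkill a ha, smul_zero]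
  · rw [rs_smul, ht₁, ← mul_smul, ← map_mul, ← pow_add, show n - n₁ + n₁ = n by omega, rs_smul, hσ, ro_ro]

/-- Čech `H¹` of killed sections vanishes. -/
theorem exists_coboundary [QuasiSeparatedSpace X] [Coh.IsQCoh M] {T : Set X} (hM : Supp0 M T)
    (hT : IsClosed T) (hfg : Groth.L19.Approx.FGOn L ⊤) [IsAffine L.subscheme]
    (hL : (L.support : Set X) = T) {ι : Type u} [Finite ι] (V : ι → X.affineOpens)
    (f : ι → Γ(L.subscheme, ⊤)) (hf : ∀ i, L.subschemeι ⁻¹ᵁ (V i).1 = L.subscheme.basicOpen (f i))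
    (hspan : Ideal.span (Set.range f) = ⊤)
    (s : ∀ i j, Γ(M, (V i).1 ⊓ (V j).1)) (hk : ∀ i j, Kills L (s i j))
    (hcoc : ∀ i j k (W : X.Opens) (hi : W ≤ (V i).1) (hj : W ≤ (V j).1) (hk : W ≤ (V k).1),
      rs M (le_inf hi hk) (s i k) = rs M (le_inf hi hj) (s i j) + rs M (le_inf hj hk) (s j k)) :
    ∃ h : ∀ i, Γ(M, (V i).1), ∀ i j, rs M inf_le_right (h j) - rs M inf_le_left (h i) = s i j := by
  classical
  haveI := Fintype.ofFinite ι
  let Y := L.subscheme
  let fr : ∀ r i, Γ(Y, L.subschemeι ⁻¹ᵁ (V i).1) := fun r i => ro le_top (f r)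
  choose c hc using fun r i => Scheme.IdealSheafData.subschemeι_app_surjective L (V i) (fr r i)
  have htr : ∀ r i, (X.basicOpen (c r i) : Set X) ∩ T = (((V r).1 ⊓ (V i).1 : X.Opens) : Set X) ∩ T := by
    intro r i
    ext x
    constructor
    · rintro ⟨hx, hxT⟩
      rw [← hL, ← Scheme.IdealSheafData.range_subschemeι] at hxT
      obtain ⟨y, rfl⟩ := hxT
      have hy : y ∈ Y.basicOpen (fr r i) := by
        rw [← hc r i, ← Scheme.preimage_basicOpen]
        exact hx
      rw [Scheme.basicOpen_res, ← hf r] at hy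
      exact ⟨⟨hy.2, X.basicOpen_le _ hx⟩, hL ▸ L.range_subschemeι ▸ ⟨y, rfl⟩⟩
    · rintro ⟨⟨hxr, hxi⟩, hxT⟩
      refine ⟨?_, hxT⟩
      rw [← hL, ← Scheme.IdealSheafData.range_subschemeι] at hxT
      obtain ⟨y, rfl⟩ := hxT
      have hy : y ∈ Y.basicOpen (fr r i) := by
        rw [Scheme.basicOpen_res, ← hf r]
        exact ⟨hxi, hxr⟩
      rw [← hc r i, ← Scheme.preimage_basicOpen] at hy
      exact hy
  choose N hN using fun r i => exists_ext hM hT hfg (V i) (V r).1 (c r i) (htr r i) (s r i) (hk r i)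
  obtain ⟨B, hB⟩ := (Set.finite_range fun p : ι × ι => N p.1 p.2).bddAbove
  choose t ht hteq using fun r i => hN r i B (hB ⟨(r, i), rfl⟩)
  -- compatibility of the extensions, up to a further power
  have h1 : ∀ r i j, ∃ m : ℕ, ro (inf_le_left : (V i).1 ⊓ (V j).1 ≤ (V i).1) (c r i) ^ m •
      (rs M inf_le_right (t r j) - rs M inf_le_left (t r i) -
        ro (inf_le_left : (V i).1 ⊓ (V j).1 ≤ (V i).1) (c r i) ^ B • s i j) = 0 := by
    intro r i j
    refine Groth.L16.QcqsPush.exists_pow_smul_eq_zero M ?_ _ _ ?_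
    · exact QuasiSeparatedSpace.inter_isCompact _ _ (V i).1.2 (V i).2.isCompact (V j).1.2 (V j).2.isCompact
    · let O : X.Opens := (X.basicOpen (c r i) ⊓ (V r).1) ⊓ (X.basicOpen (c r j) ⊓ (V r).1)
      have hO : O ≤ X.basicOpen (ro (inf_le_left : (V i).1 ⊓ (V j).1 ≤ (V i).1) (c r i)) := by
        rw [Groth.L16.QcqsPush.basicOpen_ro]
        exact le_inf (le_inf ((inf_le_left.trans inf_le_left).trans (X.basicOpen_le _))
          ((inf_le_right.trans inf_le_left).trans (X.basicOpen_le _))) (inf_le_left.trans inf_le_left)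
      refine hM.rs_injective hT hO ?_ ?_
      · rintro x ⟨hx, hxT⟩
        rw [SetLike.mem_coe, Groth.L16.QcqsPush.basicOpen_ro] at hx
        have hr : x ∈ (V r).1 := ((htr r i).le ⟨hx.2, hxT⟩).1.1
        exact ⟨⟨hx.2, hr⟩, ((htr r j).ge ⟨⟨hr, hx.1.2⟩, hxT⟩).1, hr⟩
      · have hi : O ≤ (V i).1 := (inf_le_left.trans inf_le_left).trans (X.basicOpen_le _)
        have hj : O ≤ (V j).1 := (inf_le_right.trans inf_le_left).trans (X.basicOpen_le _)
        have hr : O ≤ (V r).1 := inf_le_left.trans inf_le_right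
        have e1 := congrArg (rs M (inf_le_left : O ≤ X.basicOpen (c r i) ⊓ (V r).1)) (hteq r i)
        have e2 := congrArg (rs M (inf_le_right : O ≤ X.basicOpen (c r j) ⊓ (V r).1)) (hteq r j)
        simp only [rs_rs, rs_smul, ro_ro] at e1 e2
        refine Eq.trans ?_ (map_zero _).symm
        simp only [rs_sub, rs_rs, rs_smul, ro_ro]
        rw [e1, e2]
        rw [show ro (hj : O ≤ (V j).1) (c r j ^ B) • rs M (le_inf hr hj) (s r j) =
            ro (hi : O ≤ (V i).1) (c r i ^ B) • rs M (le_inf hr hj) (s r j) from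
          ((hk r j).res _).smul_eq (by
            rw [app_ro, app_ro, map_pow, map_pow, hc, hc]
            simp only [fr, Groth.L16.QcqsPush.ro_pow, ro_ro])]
        rw [← smul_sub, hcoc r i j O hr hi hj, add_sub_cancel_left]
        simp only [Groth.L16.QcqsPush.ro_pow, ro_ro]
        exact sub_self _
  choose m hm using h1
  obtain ⟨D, hD⟩ := (Set.finite_range fun p : ι × ι × ι => m p.1 p.2.1 p.2.2).bddAbove
  obtain ⟨a, ha⟩ := (Submodule.mem_span_range_iff_exists_fun _).1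
    (show (1 : Γ(Y, ⊤)) ∈ Ideal.span (Set.range fun r => f r ^ (D + B)) by
      rw [Set.range_comp' (fun x => x ^ (D + B)) f, Ideal.span_pow_eq_top _ hspan]; exact trivial)
  choose A hA using fun r i => Scheme.IdealSheafData.subschemeι_app_surjective L (V i)
    (ro (le_top : L.subschemeι ⁻¹ᵁ (V i).1 ≤ ⊤) (a r))
  refine ⟨fun i => ∑ r, A r i • c r i ^ D • t r i, fun i j => ?_⟩
  have hterm : ∀ r, rs M inf_le_right (A r j • c r j ^ D • t r j) - rs M inf_le_left (A r i • c r i ^ D • t r i) =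
      ro (inf_le_left : (V i).1 ⊓ (V j).1 ≤ (V i).1) (A r i * c r i ^ (D + B)) • s i j := by
    intro r
    rw [← mul_smul, ← mul_smul, rs_smul, rs_smul]
    rw [((ht r j).res inf_le_right).smul_eq (b := ro (inf_le_left : (V i).1 ⊓ (V j).1 ≤ (V i).1)
      (A r i * c r i ^ D)) (by
        rw [app_ro, app_ro, map_mul, map_mul, map_pow, map_pow, hc, hc, hA, hA]
        simp only [Groth.L18.Frame.ro_mul, Groth.L16.QcqsPush.ro_pow, ro_ro, fr])]
    rw [← smul_sub]
    simp only [Groth.L18.Frame.ro_mul, Groth.L16.QcqsPush.ro_pow, mul_smul, pow_add]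
    congr 1
    have := hm r i j
    rw [← Nat.sub_add_cancel (hD ⟨(r, i, j), rfl⟩), pow_add, mul_smul, mul_smul, ← sub_eq_zero, ← smul_sub,
      ← smul_sub, this, smul_zero]
  rw [show rs M (inf_le_right : (V i).1 ⊓ (V j).1 ≤ _) (∑ r, A r j • c r j ^ D • t r j) =
    ∑ r, rs M inf_le_right (A r j • c r j ^ D • t r j) from map_sum _ _ _,
    show rs M (inf_le_left : (V i).1 ⊓ (V j).1 ≤ _) (∑ r, A r i • c r i ^ D • t r i) =
    ∑ r, rs M inf_le_left (A r i • c r i ^ D • t r i) from map_sum _ _ _, ← Finset.sum_sub_distrib,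
    Finset.sum_congr rfl fun r _ => hterm r, ← Finset.sum_smul]
  refine ((hk i j).smul_eq (b := 1) ?_).trans (one_smul _ _)
  rw [map_sum, map_one]
  have := congrArg (ro (le_top : L.subschemeι ⁻¹ᵁ ((V i).1 ⊓ (V j).1) ≤ ⊤)) ha
  rw [ro_sum, ro_one] at this
  refine Eq.trans (Finset.sum_congr rfl fun r _ => ?_) this
  rw [app_ro, map_mul, map_pow, hc, hA]
  simp only [Groth.L18.Frame.ro_mul, Groth.L16.QcqsPush.ro_pow, ro_ro, fr, smul_eq_mul]

end Groth.L20.Strat
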