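import Groth.Agent.L20.Strat.Cech
import Groth.Agent.L10.CechSheaf
import Groth.Agent.L17.CoverVanishing

/-!
# Quasi-coherent modules supported on a closed affine subscheme are acyclic
-/

universe u

open CategoryTheory CategoryTheory.Limits CategoryTheory.Abelian AlgebraicGeometry TopologicalSpace Opposite

noncomputable section

namespace Groth.L20.Strat

open Groth.L17 (HU huRes hTopEquiv)
open Groth.L18.Frame (rs ro rs_rs ro_ro rs_smul rs_self ro_self)

set_option linter.style.haveILetI false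
set_option backward.isDefEq.respectTransparency.types false

variable {X : Scheme.{u}} {M : X.Modules}

theorem Supp0.restrict {T : Set X} (hM : Supp0 M T) (U : X.Opens) :
    Supp0 (M.restrict U.ι) (U.ι ⁻¹' T) := fun O hO s =>
  hM (U.ι ''ᵁ O) (Set.disjoint_left.2 fun _ ⟨y, hy, e⟩ hx => Set.disjoint_left.1 hO hy (by
    show U.ι y ∈ T
    rw [show U.ι y = _ from e]
    exact hx)) s

/-- A module all of whose sections over smaller opens vanish has no cohomology. -/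
theorem hu_zero {T : Set X} (hM : Supp0 M T) (U : X.Opens) (hU : Disjoint (U : Set X) T) (n : ℕ)
    (x : HU (X := X.toTopCat) U (Coh.toAb M) n) : x = 0 := by
  obtain ⟨e⟩ := Groth.L17.nonempty_hhon_equiv M U n
  have hz : IsZero (Coh.toAb (M.restrict U.ι)) := by
    rw [IsZero.iff_id_eq_zero]
    ext O s
    exact (hM.restrict U O.unop (Set.disjoint_left.2 fun y _ hy => Set.disjoint_left.1 hU y.2 hy) s).trans
      (hM.restrict U O.unop (Set.disjoint_left.2 fun y _ hy => Set.disjoint_left.1 hU y.2 hy) _).symm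
  have : ∀ y : Coh.HHon X M U n, y = 0 := fun y => by
    have h := Ext.comp_mk₀_id y
    rw [hz.eq_of_src (𝟙 _) 0, Ext.mk₀_zero, Ext.comp_zero] at h
    exact h.symm
  exact e.symm.injective ((this _).trans (map_zero _).symm)

/-- Vanishing only depends on the trace on `T`. -/
theorem hu_excision {T : Set X} (hT : IsClosed T) (hM : Supp0 M T) {U U' : X.Opens} (h : U' ≤ U)
    (hUT : (U : Set X) ∩ T ⊆ U') {n : ℕ}
    (hU' : ∀ y : HU (X := X.toTopCat) U' (Coh.toAb M) (n + 1), y = 0)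
    (x : HU (X := X.toTopCat) U (Coh.toAb M) (n + 1)) : x = 0 := by
  have e : U = U' ⊔ (U ⊓ away hT) := le_antisymm (fun y hy => by
    by_cases hyT : y ∈ T
    · exact Or.inl (hUT ⟨hy, hyT⟩)
    · exact Or.inr ⟨hy, hyT⟩) (sup_le h inf_le_left)
  revert x
  rw [e]
  exact fun x => Groth.L17.hu_sup_vanish
    (fun y => hu_zero hM (U' ⊓ (U ⊓ away hT)) (Set.disjoint_left.2 fun _ hz => hz.2.2) n y) hU'
    (fun y => hu_zero hM (U ⊓ away hT) (Set.disjoint_left.2 fun _ hz => hz.2) _ y) x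

/-- Points have affine neighbourhoods tracing basic opens. -/
theorem exists_good_nbhd {Y : Scheme.{u}} (t : Y ⟶ X) [IsClosedImmersion t] [IsAffine Y] (x : X) :
    ∃ (V : X.affineOpens) (f : Γ(Y, ⊤)), x ∈ V.1 ∧ t ⁻¹ᵁ V.1 = Y.basicOpen f := by
  by_cases hx : x ∈ Set.range t
  · obtain ⟨y, rfl⟩ := hx
    obtain ⟨_, ⟨V, hV, rfl⟩, hxV, -⟩ :=
      X.isBasis_affineOpens.exists_subset_of_mem_open (Set.mem_univ (t y)) isOpen_univ
    obtain ⟨g, hg, hyg⟩ := (isAffineOpen_top Y).exists_basicOpen_le (V := t ⁻¹ᵁ V) ⟨y, hxV⟩ trivial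
    obtain ⟨c, hc⟩ := t.app_surjective V hV (ro le_top g)
    have e : t ⁻¹ᵁ X.basicOpen c = Y.basicOpen g := by
      rw [Scheme.preimage_basicOpen, hc, Scheme.basicOpen_res]
      exact inf_eq_right.2 hg
    exact ⟨⟨X.basicOpen c, hV.basicOpen c⟩, g, (e.ge hyg : y ∈ t ⁻¹ᵁ X.basicOpen c), e⟩
  · obtain ⟨_, ⟨V, hV, rfl⟩, hxV, hle⟩ := X.isBasis_affineOpens.exists_subset_of_mem_open
      (show x ∈ (Set.range t)ᶜ from hx) t.isClosedEmbedding.isClosed_range.isOpen_compl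
    exact ⟨⟨V, hV⟩, 0, hxV, TopologicalSpace.Opens.ext (by
      rw [Scheme.basicOpen_zero]
      exact Set.eq_empty_iff_forall_notMem.2 fun y hy => hle hy ⟨y, rfl⟩)⟩

/-- `H¹` of a supported module vanishes. -/
theorem hu_one_eq_zero [CompactSpace X] [QuasiSeparatedSpace X] {Z : Scheme.{u}} (t : Z ⟶ X)
    [IsClosedImmersion t] [IsAffine Z] (hc : IsCompact (Set.range t)ᶜ) [Coh.IsQCoh M]
    (hM : Supp0 M (Set.range t)) (x : HU (X := X.toTopCat) ⊤ (Coh.toAb M) 1) : x = 0 := by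
  classical
  obtain ⟨J, hJfg, hJs, hJn⟩ := exists_ideal t hc
  haveI hY : IsAffine (J ^ 1).subscheme := (hJn 1 one_pos).2
  choose V g hxV hg using exists_good_nbhd (J ^ 1).subschemeι
  obtain ⟨S₀, hS₀⟩ := isCompact_univ.elim_finite_subcover (fun x => ((V x).1 : Set X)) (fun x => (V x).1.2)
    (fun x _ => Set.mem_iUnion.2 ⟨x, hxV x⟩)
  have hcov : (⊤ : X.Opens) ≤ ⨆ k : S₀, (V k.1).1 := fun y _ => by
    obtain ⟨k, hk, hy⟩ := Set.mem_iUnion₂.1 (hS₀ (Set.mem_univ y))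
    exact Opens.mem_iSup.2 ⟨⟨k, hk⟩, hy⟩
  let S := Groth.L10.SiteCoh.hull (Coh.toAb M)
  have hS : S.ShortExact := Groth.L10.SiteCoh.hull_shortExact _
  refine Groth.L10.SiteCoh.eq_zero_of_surjective_sections hS (⊤ : X.Opens) (fun s => ?_) x
    (Ext.eq_zero_of_injective _)
  have hl : ∀ k : S₀, ∃ t : S.X₂.obj.obj (op (V k.1).1),
      S.g.hom.app _ t = S.X₃.obj.map (homOfLE le_top).op s := fun k => by
    haveI : Subsingleton (Ext (Groth.L10.SiteCoh.fs (Opens.grothendieckTopology X) (V k.1).1) S.X₁ 1) :=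
      subsingleton_of_forall_eq 0 fun y => Groth.L17.hu_affine_eq_zero M (V k.1).2 0 y
    exact Groth.L10.SiteCoh.surjective_sections_of_subsingleton hS _ _
  choose lf hlf using hl
  have hd : ∀ i j : S₀, ∃ d : Γ(M, (V i.1).1 ⊓ (V j.1).1), S.f.hom.app _ d =
      S.X₂.obj.map (homOfLE inf_le_right).op (lf j) - S.X₂.obj.map (homOfLE inf_le_left).op (lf i) := by
    intro i j
    refine Groth.L10.Cech.app_exact hS _ _ ?_
    rw [map_sub, sub_eq_zero, NatTrans.naturality_apply, NatTrans.naturality_apply, hlf, hlf,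
      ← ConcreteCategory.comp_apply, ← ConcreteCategory.comp_apply, ← Functor.map_comp, ← Functor.map_comp]
    rfl
  choose d hd using hd
  have hinj : ∀ W : X.Opens, Function.Injective (S.f.hom.app (op W)) := fun W =>
    Groth.L10.Cech.app_injective hS W
  have hres : ∀ {W W' : X.Opens} (h : W' ≤ W) (a : Γ(M, W)),
      S.f.hom.app (op W') (rs M h a) = S.X₂.obj.map (homOfLE h).op (S.f.hom.app (op W) a) :=
    fun h a => NatTrans.naturality_apply S.f.hom (homOfLE h).op a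
  have hcomp : ∀ {W W' W'' : X.Opens} (h : W' ≤ W) (h' : W'' ≤ W') (a : S.X₂.obj.obj (op W)),
      S.X₂.obj.map (homOfLE h').op (S.X₂.obj.map (homOfLE h).op a) =
        S.X₂.obj.map (homOfLE (h'.trans h)).op a := fun h h' a => by
    rw [← ConcreteCategory.comp_apply, ← Functor.map_comp]
    rfl
  have hTc : IsClosed (Set.range t) := t.isClosedEmbedding.isClosed_range
  choose N hN using fun p : S₀ × S₀ => exists_kills hJfg (by rw [hJs]; exact hM)
    (QuasiSeparatedSpace.inter_isCompact _ _ (V p.1.1).1.2 (V p.1.1).2.isCompact (V p.2.1).1.2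
      (V p.2.1).2.isCompact) (d p.1 p.2)
  obtain ⟨B, hB⟩ := (Set.finite_range N).bddAbove
  haveI hYn : IsAffine (J ^ (B + 1)).subscheme := (hJn _ (Nat.succ_pos B)).2
  -- refine the cover for the thickening
  choose V' g' hxV' hg' using exists_good_nbhd (J ^ (B + 1)).subschemeι
  have hr : ∀ y : X, ∃ (W : X.affineOpens) (f : Γ((J ^ (B + 1)).subscheme, ⊤)) (k : S₀),
      y ∈ W.1 ∧ (J ^ (B + 1)).subschemeι ⁻¹ᵁ W.1 = (J ^ (B + 1)).subscheme.basicOpen f ∧
      W.1 ≤ (V k.1).1 := by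
    intro y
    obtain ⟨k, hk⟩ := Opens.mem_iSup.1 (hcov (show y ∈ (⊤ : X.Opens) from trivial))
    obtain ⟨c, hc, hyc⟩ := (V' y).2.exists_basicOpen_le (V := (V k.1).1) ⟨y, hk⟩ (hxV' y)
    haveI := hYn
    obtain ⟨f₁, hf₁⟩ := (isAffineOpen_top (J ^ (B + 1)).subscheme).basicOpen_basicOpen_is_basicOpen
      (g' y) (ro (hg' y).ge ((J ^ (B + 1)).subschemeι.app (V' y).1 c))
    rw [Scheme.basicOpen_res, ← Scheme.preimage_basicOpen,
      inf_eq_right.2 (((J ^ (B + 1)).subschemeι.preimage_mono (X.basicOpen_le c)).trans (hg' y).le)] at hf₁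
    exact ⟨⟨X.basicOpen c, (V' y).2.basicOpen c⟩, f₁, k, hyc, hf₁.symm, hc⟩
  choose W f k hyW hW hWV using hr
  obtain ⟨S₁, hS₁⟩ := isCompact_univ.elim_finite_subcover (fun x => ((W x).1 : Set X)) (fun x => (W x).1.2)
    (fun x _ => Set.mem_iUnion.2 ⟨x, hyW x⟩)
  have hcov₁ : (⊤ : X.Opens) ≤ ⨆ a : S₁, (W a.1).1 := fun y _ => by
    obtain ⟨a, ha, hy⟩ := Set.mem_iUnion₂.1 (hS₁ (Set.mem_univ y))
    exact Opens.mem_iSup.2 ⟨⟨a, ha⟩, hy⟩
  have hspan : Ideal.span (Set.range fun a : S₁ => f a.1) = ⊤ := by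
    haveI := hYn
    rw [← (isAffineOpen_top (J ^ (B + 1)).subscheme).iSup_basicOpen_eq_self_iff]
    refine top_le_iff.1 fun y _ => ?_
    obtain ⟨a, ha⟩ := Opens.mem_iSup.1 (hcov₁ (show (J ^ (B + 1)).subschemeι y ∈ (⊤ : X.Opens) from trivial))
    exact Opens.mem_iSup.2 ⟨⟨f a.1, ⟨a, rfl⟩⟩, (hW a.1).le ha⟩
  let s' : ∀ a b : S₁, Γ(M, (W a.1).1 ⊓ (W b.1).1) := fun a b =>
    rs M (inf_le_inf (hWV a.1) (hWV b.1)) (d (k a.1) (k b.1))
  obtain ⟨hh, hhh⟩ := exists_coboundary (L := J ^ (B + 1)) hM hTc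
    (fun U hU => by
      rw [Scheme.IdealSheafData.ideal_pow, Pi.pow_apply]
      exact (hJfg U hU).pow)
    (hJn _ (Nat.succ_pos B)).1 (fun a : S₁ => W a.1) (fun a => f a.1) (fun a => hW a.1) hspan s'
    (fun a b => (hN (k a.1, k b.1) (B + 1) ((hB ⟨_, rfl⟩).trans B.le_succ)).res _)
    (fun a b c O ha hb hc => by
      apply hinj O
      simp only [s', rs_rs]
      refine Eq.trans ?_ (map_add (S.f.hom.app (op O)).hom _ _).symm
      simp only [hres, hd, map_sub, hcomp]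
      abel)
  -- glue the corrected lifts
  let I₂ : TopCat.Sheaf AddCommGrpCat.{u} X.toTopCat := ⟨S.X₂.obj, S.X₂.property⟩
  let L : ∀ a : S₁, S.X₂.obj.obj (op (W a.1).1) := fun a =>
    S.X₂.obj.map (homOfLE (hWV a.1)).op (lf (k a.1)) - S.f.hom.app (op (W a.1).1) (hh a)
  obtain ⟨G, hG, -⟩ := TopCat.Sheaf.existsUnique_gluing' I₂ (fun a : S₁ => (W a.1).1) ⊤
    (fun a => homOfLE le_top) hcov₁ L (fun a b => by
      show S.X₂.obj.map (homOfLE (inf_le_left : (W a.1).1 ⊓ (W b.1).1 ≤ _)).op (L a) =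
        S.X₂.obj.map (homOfLE (inf_le_right : (W a.1).1 ⊓ (W b.1).1 ≤ _)).op (L b)
      simp only [L, map_sub, hcomp, ← hres]
      have e : S.f.hom.app (op ((W a.1).1 ⊓ (W b.1).1)) (rs M inf_le_right (hh b)) -
          S.f.hom.app (op ((W a.1).1 ⊓ (W b.1).1)) (rs M inf_le_left (hh a)) =
          S.f.hom.app (op ((W a.1).1 ⊓ (W b.1).1)) (s' a b) :=
        (map_sub (S.f.hom.app (op ((W a.1).1 ⊓ (W b.1).1))).hom _ _).symm.trans
          (congrArg (S.f.hom.app (op ((W a.1).1 ⊓ (W b.1).1))) (hhh a b))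
      simp only [s', map_sub, hres, hd, hcomp] at e ⊢
      rw [← sub_eq_zero] at e ⊢
      rw [← e]
      abel)
  refine ⟨G, ?_⟩
  refine TopCat.Sheaf.eq_of_locally_eq' (⟨S.X₃.obj, S.X₃.property⟩ : TopCat.Sheaf AddCommGrpCat.{u} X.toTopCat)
    (fun a : S₁ => (W a.1).1) ⊤ (fun a => homOfLE le_top) hcov₁ _ _ fun a => ?_
  show S.X₃.obj.map (homOfLE (le_top : (W a.1).1 ≤ ⊤)).op (S.g.hom.app (op ⊤) G) =
    S.X₃.obj.map (homOfLE (le_top : (W a.1).1 ≤ ⊤)).op s
  rw [← NatTrans.naturality_apply, show S.X₂.obj.map (homOfLE (le_top : (W a.1).1 ≤ ⊤)).op G = L a from hG a]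
  simp only [L, map_sub]
  have hz : ∀ y, S.g.hom.app (op (W a.1).1) (S.f.hom.app (op (W a.1).1) y) = 0 := fun y => by
    have h := congrArg (fun φ : S.X₁ ⟶ S.X₃ => φ.hom.app (op (W a.1).1) y) S.zero
    exact h
  rw [NatTrans.naturality_apply, hlf, ← ConcreteCategory.comp_apply, ← Functor.map_comp, hz, sub_zero]
  rfl

end Groth.L20.Strat
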