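import Groth.Agent.L20.Strat.Supported

/-!
# Higher cohomology of quasi-coherent modules supported on a closed affine subscheme
-/

universe u

open CategoryTheory CategoryTheory.Limits CategoryTheory.Abelian AlgebraicGeometry TopologicalSpace Opposite

noncomputable section

namespace Groth.L20.Strat

open Groth.L17 (HU huRes hTopEquiv)
open Groth.L18.Frame (rs ro rs_rs ro_ro rs_smul rs_self ro_self)

set_option linter.style.haveILetI false
set_option backward.isDefEq.respectTransparency.types false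

/-- Vanishing in degree `n + 1` on all quasi-compact quasi-separated schemes. -/
def Vanishes (n : ℕ) : Prop :=
  ∀ (X : Scheme.{u}) [CompactSpace X] [QuasiSeparatedSpace X] (Z : Scheme.{u}) (t : Z ⟶ X)
    [IsClosedImmersion t] [IsAffine Z], IsCompact (Set.range t)ᶜ →
    ∀ (M : X.Modules) [Coh.IsQCoh M], Supp0 M (Set.range t) →
      ∀ x : HU (X := X.toTopCat) ⊤ (Coh.toAb M) (n + 1), x = 0

theorem Vanishes.on_open {n : ℕ} (h : Vanishes.{u} n) {X : Scheme.{u}} [QuasiSeparatedSpace X]
    {Z : Scheme.{u}} (t : Z ⟶ X) [IsClosedImmersion t] (hc : IsCompact (Set.range t)ᶜ)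
    (M : X.Modules) [Coh.IsQCoh M] (hM : Supp0 M (Set.range t)) (U : X.Opens)
    (hU : IsCompact (U : Set X)) (ha : IsAffineOpen (t ⁻¹ᵁ U))
    (x : HU (X := X.toTopCat) U (Coh.toAb M) (n + 1)) : x = 0 := by
  haveI : CompactSpace U.toScheme := isCompact_iff_compactSpace.mp hU
  haveI : QuasiSeparatedSpace U.toScheme := QuasiSeparatedSpace.of_isOpenEmbedding U.ι.isOpenEmbedding
  haveI : IsAffine (t ⁻¹ᵁ U).toScheme := ha
  haveI : IsClosedImmersion (t ∣_ U) := MorphismProperty.of_isPullback (P := @IsClosedImmersion)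
    (isPullback_morphismRestrict t U).flip inferInstance
  haveI : Coh.IsQCoh (M.restrict U.ι) := Scheme.Modules.isQuasicoherent_restrictFunctor U.ι M
  have hr : Set.range (t ∣_ U) = U.ι ⁻¹' Set.range t := by
    ext y
    constructor
    · rintro ⟨z, rfl⟩
      exact ⟨(t ⁻¹ᵁ U).ι z, by rw [← Scheme.Hom.comp_apply, ← morphismRestrict_ι]; rfl⟩
    · rintro ⟨z, hz⟩
      have hzU : z ∈ t ⁻¹ᵁ U := by
        show t z ∈ U
        rw [hz]; exact y.2
      refine ⟨⟨z, hzU⟩, U.ι.isOpenEmbedding.injective ?_⟩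
      rw [← Scheme.Hom.comp_apply, morphismRestrict_ι]
      exact hz
  have hc' : IsCompact (Set.range (t ∣_ U))ᶜ := by
    rw [hr, ← Set.preimage_compl, U.ι.isOpenEmbedding.isInducing.isCompact_iff, Set.image_preimage_eq_inter_range,
      Scheme.Opens.range_ι]
    exact QuasiSeparatedSpace.inter_isCompact _ _ t.isClosedEmbedding.isClosed_range.isOpen_compl hc U.2 hU
  obtain ⟨e⟩ := Groth.L17.nonempty_hhon_equiv M U (n + 1)
  have h0 : ∀ y : Coh.HHon X M U (n + 1), y = 0 := fun y =>
    (hTopEquiv (X := U.toScheme.toTopCat) _ (n + 1)).injective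
      ((h U.toScheme _ (t ∣_ U) hc' (M.restrict U.ι) (hr ▸ hM.restrict U) _).trans (map_zero _).symm)
  exact e.symm.injective ((h0 _).trans (map_zero _).symm)

theorem vanishes : ∀ n : ℕ, Vanishes.{u} n := by
  intro n
  induction n with
  | zero =>
    intro X _ _ Z t _ _ hc M _ hM x
    exact hu_one_eq_zero t hc hM x
  | succ n ih =>
    intro X _ _ Z t _ _ hc M _ hM x
    have hTc : IsClosed (Set.range t) := t.isClosedEmbedding.isClosed_range
    let Good : Γ(Z, ⊤) → Prop := fun h => ∃ U : X.Opens, IsCompact (U : Set X) ∧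
      t ⁻¹ᵁ U = Z.basicOpen h ∧ ∀ y : HU (X := X.toTopCat) U (Coh.toAb M) (n + 1 + 1), y = 0
    let G : Ideal Γ(Z, ⊤) :=
      { carrier := {h | ∀ c, Good (h * c)}
        add_mem' := by
          intro f g hf hg c
          obtain ⟨Uf, hUf, htf, hvf⟩ := hf ((f + g) * c)
          obtain ⟨Ug, hUg, htg, hvg⟩ := hg ((f + g) * c)
          refine ⟨Uf ⊔ Ug, by rw [Opens.coe_sup]; exact hUf.union hUg, ?_, fun y => ?_⟩
          · rw [Scheme.Hom.preimage_sup, htf, htg, Z.basicOpen_mul f, Z.basicOpen_mul g, ← inf_sup_right]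
            refine inf_eq_right.2 ?_
            rw [Z.basicOpen_mul (f + g)]
            refine inf_le_left.trans ?_
            exact Scheme.basicOpen_add_le _ _ _
          · refine Groth.L17.hu_sup_vanish (fun y => ih.on_open t hc M hM (Uf ⊓ Ug) ?_ ?_ y) hvf hvg y
            · rw [Opens.coe_inf]
              exact QuasiSeparatedSpace.inter_isCompact _ _ Uf.2 hUf Ug.2 hUg
            · rw [Scheme.Hom.preimage_inf, htf, htg, ← Scheme.basicOpen_mul]
              exact (isAffineOpen_top Z).basicOpen _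
        zero_mem' := by
          intro c
          refine ⟨⊥, by simp, ?_, fun y => Groth.L17.hu_bot_eq_zero (X := X.toTopCat) y⟩
          rw [zero_mul, Scheme.basicOpen_zero]
          rfl
        smul_mem' := by
          intro a f hf c
          obtain ⟨U, hU⟩ := hf (a * c)
          exact ⟨U, by rwa [smul_eq_mul, mul_comm a f, mul_assoc]⟩ }
    choose V g hxV hg using exists_good_nbhd t
    have hbase : ∀ y, g y ∈ G := by
      intro y c
      obtain ⟨d, hd⟩ := t.app_surjective _ (V y).2 (ro le_top c)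
      refine ⟨X.basicOpen d, ((V y).2.basicOpen d).isCompact, ?_, fun z =>
        Groth.L17.hu_affine_eq_zero M ((V y).2.basicOpen d) _ z⟩
      rw [Scheme.preimage_basicOpen, hd, Scheme.basicOpen_res, hg, Scheme.basicOpen_mul]
    have hG : G = ⊤ := by
      rw [← top_le_iff]
      have hs : Ideal.span (Set.range g) = ⊤ := by
        rw [← (isAffineOpen_top Z).iSup_basicOpen_eq_self_iff]
        refine top_le_iff.1 fun z _ => ?_
        exact Opens.mem_iSup.2 ⟨⟨g (t z), ⟨t z, rfl⟩⟩, (hg (t z)).le (hxV (t z))⟩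
      rw [← hs, Ideal.span_le]
      rintro _ ⟨y, rfl⟩
      exact hbase y
    obtain ⟨U, hU, htU, hv⟩ := (hG ▸ Submodule.mem_top : (1 : Γ(Z, ⊤)) ∈ G) 1
    refine hu_excision hTc hM (le_top : U ≤ ⊤) ?_ hv x
    rintro _ ⟨-, z, rfl⟩
    have : z ∈ t ⁻¹ᵁ U := by
      rw [htU, mul_one, Scheme.basicOpen_of_isUnit _ isUnit_one]
      trivial
    exact this

/-- A quasi-coherent module supported on a closed affine subscheme with quasi-compact complement has
no higher cohomology on a quasi-compact open meeting the subscheme in an affine open. -/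
theorem hu_eq_zero_of_supported {X : Scheme.{u}} [QuasiSeparatedSpace X] {Z : Scheme.{u}} (t : Z ⟶ X)
    [IsClosedImmersion t] (hc : IsCompact (Set.range t)ᶜ) (M : X.Modules) [Coh.IsQCoh M]
    (hM : Supp0 M (Set.range t)) (U : X.Opens) (hU : IsCompact (U : Set X))
    (ha : IsAffineOpen (t ⁻¹ᵁ U)) (n : ℕ) (x : HU (X := X.toTopCat) U (Coh.toAb M) (n + 1)) : x = 0 :=
  (vanishes n).on_open t hc M hM U hU ha x

end Groth.L20.Strat
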